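import Groth.Prelude.Def_W4c5qcohlocdualityLoc
import Mathlib.CategoryTheory.Abelian.GrothendieckCategory.ColimCoyoneda
import Mathlib.CategoryTheory.Abelian.GrothendieckCategory.EnoughInjectives
import Mathlib.CategoryTheory.Limits.Constructions.Filtered
import Mathlib.CategoryTheory.Abelian.Basic
import Mathlib.Algebra.Homology.ShortComplex.ExactFunctor

/-!
# Objects closed for a class are closed for its localizing closure
-/

universe w v u

open CategoryTheory CategoryTheory.Limits ZeroObject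

namespace GrothLib.GabLocB

variable {C : Type u} [Category.{v} C] [Abelian C]

/-- every subobject has no map to `M` and lifts maps through `q` -/
def Orth {M I Q : C} (ι : M ⟶ I) (q : I ⟶ Q) : ObjectProperty C := fun Y =>
  ∀ ⦃S : C⦄ (s : S ⟶ Y), Mono s → (∀ f : S ⟶ M, f = 0) ∧ ∀ g : S ⟶ Q, ∃ h : S ⟶ I, h ≫ q = g

variable {M I Q : C} {ι : M ⟶ I} {q : I ⟶ Q}

theorem orth_mono {X Y : C} (f : X ⟶ Y) [Mono f] (h : Orth ι q Y) : Orth ι q X :=
  fun S s hs => h (s ≫ f) (@mono_comp _ _ _ _ _ s hs f _)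

theorem orth_zero {X : C} (hX : IsZero X) : Orth ι q X := fun S s hs =>
  have hS : IsZero S := IsZero.of_mono s hX
  ⟨fun f => hS.eq_of_src f 0, fun g => ⟨0, hS.eq_of_src _ _⟩⟩

section

variable (w0 : ι ≫ q = 0) (hk : IsLimit (KernelFork.ofι ι w0))
include hk

/-- lifts are unique -/
theorem lift_unique [Mono ι] {S : C} (h0 : ∀ f : S ⟶ M, f = 0) {a b : S ⟶ I} (h : a ≫ q = b ≫ q) :
    a = b := by
  obtain ⟨l, hl⟩ := KernelFork.IsLimit.lift' hk (a - b) (by rw [Preadditive.sub_comp, h, sub_self])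
  rw [h0 l] at hl
  exact sub_eq_zero.1 (hl.symm.trans zero_comp)

theorem orth_epi [Mono ι] {X Y : C} (π : X ⟶ Y) [Epi π] (h : Orth ι q X) : Orth ι q Y := by
  intro S s hs
  let S' := pullback s π
  haveI : Mono (pullback.snd s π) := inferInstance
  haveI : Epi (pullback.fst s π) := inferInstance
  obtain ⟨h0, hl⟩ := h (pullback.snd s π) inferInstance
  refine ⟨fun f => ?_, fun g => ?_⟩
  · rw [← cancel_epi (pullback.fst s π), h0 (pullback.fst s π ≫ f), comp_zero]
  · obtain ⟨l, hl'⟩ := hl (pullback.fst s π ≫ g)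
    let k := kernel.ι (pullback.fst s π)
    have hk0 : ∀ f : kernel (pullback.fst s π) ⟶ M, f = 0 := (h (k ≫ pullback.snd s π) inferInstance).1
    have : k ≫ l = 0 := lift_unique w0 hk hk0 (by
      rw [Category.assoc, hl', kernel.condition_assoc, zero_comp, zero_comp])
    let hc := Abelian.epiIsCokernelOfKernel (KernelFork.ofι k (kernel.condition _)) (kernelIsKernel _)
    obtain ⟨m, hm⟩ := CokernelCofork.IsColimit.desc' hc l this
    refine ⟨m, ?_⟩
    rw [← cancel_epi (pullback.fst s π), ← Category.assoc]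
    exact (congrArg (· ≫ q) hm).trans hl'

theorem orth_extension [Injective I] [Mono ι] {T : ShortComplex C} (hT : T.ShortExact)
    (h₁ : Orth ι q T.X₁) (h₃ : Orth ι q T.X₃) : Orth ι q T.X₂ := by
  haveI := hT.mono_f
  intro S s hs
  let e := Abelian.factorThruImage (s ≫ T.g)
  let k := kernel.ι (s ≫ T.g)
  obtain ⟨k', hk'⟩ := KernelFork.IsLimit.lift' hT.fIsKernel (k ≫ s) (by
    rw [Category.assoc]; exact kernel.condition _)
  haveI : Mono k' := by
    haveI : Mono (k' ≫ T.f) := by rw [show k' ≫ T.f = k ≫ s from hk']; exact mono_comp k s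
    exact mono_of_mono k' T.f
  obtain ⟨hk0, hkl⟩ := h₁ k' inferInstance
  obtain ⟨hi0, hil⟩ := h₃ (Abelian.image.ι (s ≫ T.g)) inferInstance
  have hke : k ≫ e = 0 := by
    rw [← cancel_mono (Abelian.image.ι (s ≫ T.g)), Category.assoc, Abelian.image.fac, kernel.condition,
      zero_comp]
  have desc : ∀ {Z : C} (f : S ⟶ Z), k ≫ f = 0 → ∃ m, e ≫ m = f := fun {Z} f hf => by
    have hkk : kernel.ι e ≫ s ≫ T.g = 0 :=
      (congrArg (kernel.ι e ≫ ·) (Abelian.image.fac (s ≫ T.g))).symm.trans (by
        rw [← Category.assoc, kernel.condition, zero_comp])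
    have : kernel.ι e ≫ f = 0 := by
      rw [← kernel.lift_ι (s ≫ T.g) (kernel.ι e) hkk, Category.assoc, hf, comp_zero]
    obtain ⟨m, hm⟩ := CokernelCofork.IsColimit.desc'
      (Abelian.epiIsCokernelOfKernel (KernelFork.ofι (kernel.ι e) (kernel.condition e)) (kernelIsKernel e)) f this
    exact ⟨m, hm⟩
  refine ⟨fun f => ?_, fun g => ?_⟩
  · obtain ⟨m, hm⟩ := desc f (hk0 _)
    rw [← hm, hi0 m, comp_zero]
  · obtain ⟨l', hl'⟩ := hkl (k ≫ g)
    have hext : k ≫ Injective.factorThru l' k = l' := Injective.comp_factorThru l' k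
    obtain ⟨m, hm⟩ := desc (g - Injective.factorThru l' k ≫ q) (by
      rw [Preadditive.comp_sub, ← Category.assoc, hext, hl', sub_self])
    obtain ⟨m', hm'⟩ := hil m
    refine ⟨Injective.factorThru l' k + e ≫ m', ?_⟩
    rw [Preadditive.add_comp, Category.assoc, hm', hm, add_sub_cancel]

theorem orth_biprod [Injective I] [Mono ι] {A B : C} (hA : Orth ι q A) (hB : Orth ι q B) :
    Orth ι q (A ⊞ B) := by
  refine orth_extension w0 hk (T := ShortComplex.mk (biprod.inl : A ⟶ A ⊞ B) biprod.snd (by simp)) ?_ hA hB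
  exact (ShortComplex.Splitting.ofHasBinaryBiproduct A B).shortExact

theorem orth_finset [Injective I] [Mono ι] {α : Type*} (Y : α → C) (hY : ∀ a, Orth ι q (Y a))
    (s : Finset α) : Orth ι q (∐ fun x : s => Y x.1) := by
  classical
  induction s using Finset.induction_on with
  | empty => exact orth_zero ((IsZero.iff_id_eq_zero _).2 (Sigma.hom_ext _ _ fun x => absurd x.2 (Finset.notMem_empty _)))
  | @insert a s ha ih =>
    let Z := fun x : (insert a s : Finset α) => Y x.1
    let φ : Y a ⊞ (∐ fun x : s => Y x.1) ⟶ ∐ Z :=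
      biprod.desc (Sigma.ι Z ⟨a, Finset.mem_insert_self _ _⟩)
        (Sigma.desc fun x => Sigma.ι Z ⟨x.1, Finset.mem_insert_of_mem x.2⟩)
    haveI : Epi φ := by
      refine ⟨fun f g h => Sigma.hom_ext _ _ fun x => ?_⟩
      obtain ⟨x, hx⟩ := x
      rcases Finset.mem_insert.1 hx with rfl | hx'
      · have := congrArg (fun t => biprod.inl ≫ t) h
        simpa [φ] using this
      · have := congrArg (fun t => Sigma.ι (fun x : s => Y x.1) ⟨x, hx'⟩ ≫ biprod.inr ≫ t) h
        simpa [φ] using this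
    exact orth_epi w0 hk φ (orth_biprod w0 hk (hY a) ih)

theorem orth_isColimit [IsGrothendieckAbelian.{w} C] [Mono ι] {J : Type w} [SmallCategory J] [IsFiltered J]
    {F : J ⥤ C} {c : Cocone F} (hc : IsColimit c) (hF : ∀ j, Orth ι q (F.obj j)) :
    Orth ι q c.pt := by
  intro S s hs
  let P := pullback c.ι ((Functor.const J).map s)
  let p : P ⟶ (Functor.const J).obj S := pullback.snd c.ι ((Functor.const J).map s)
  haveI : Mono ((Functor.const J).map s) :=
    haveI : ∀ j, Mono (((Functor.const J).map s).app j) := fun _ => hs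
    NatTrans.mono_of_mono_app _
  have hj : ∀ j, Mono ((pullback.fst c.ι ((Functor.const J).map s)).app j) := fun j =>
    (NatTrans.mono_iff_mono_app _).1 inferInstance j
  have hjl := fun j => hF j _ (hj j)
  haveI := IsGrothendieckAbelian.IsPresentable.surjectivity.isIso_f hc s
  let f := IsGrothendieckAbelian.IsPresentable.surjectivity.f (c := c) s
  have hext : ∀ {Z : C} (a b : S ⟶ Z), (∀ j, p.app j ≫ a = p.app j ≫ b) → a = b := fun {Z} a b h => by
    rw [← cancel_epi f]
    refine colimit.hom_ext fun j => ?_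
    rw [← Category.assoc, ← Category.assoc,
      IsGrothendieckAbelian.IsPresentable.surjectivity.hf (c := c) s j]
    exact h j
  refine ⟨fun a => hext a 0 fun j => by rw [(hjl j).1 (p.app j ≫ a), comp_zero], fun g => ?_⟩
  choose l hl using fun j => (hjl j).2 (p.app j ≫ g)
  have hnat : ∀ {i j : J} (φ : i ⟶ j), P.map φ ≫ l j = l i := fun {i j} φ =>
    lift_unique w0 hk (hjl i).1 (by
      rw [Category.assoc, hl, hl, ← Category.assoc, p.naturality φ, Functor.const_obj_map]
      exact congrArg (· ≫ g) (Category.comp_id _))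
  let d := colimit.desc P (Cocone.mk I
    { app := l
      naturality := fun i j φ => by rw [hnat φ]; exact (Category.comp_id _).symm })
  refine ⟨inv f ≫ d, hext _ _ fun j => ?_⟩
  have e : p.app j ≫ inv f = colimit.ι P j := by
    rw [IsIso.comp_inv_eq]
    exact (IsGrothendieckAbelian.IsPresentable.surjectivity.hf (c := c) s j).symm
  rw [Category.assoc, ← Category.assoc (p.app j), e, ← Category.assoc, colimit.ι_desc]
  exact hl j

theorem orth_coproduct [IsGrothendieckAbelian.{w} C] [Injective I] [Mono ι] {α : Type w} (Y : α → C)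
    (hY : ∀ a, Orth ι q (Y a)) : Orth ι q (∐ Y) := by
  classical
  refine orth_isColimit (c := CoproductsFromFiniteFiltered.finiteSubcoproductsCocone Y) w0 hk
    (CoproductsFromFiniteFiltered.isColimitFiniteSubproductsCocone Y) fun s => ?_
  exact orth_finset w0 hk (fun x : Discrete α => Y x.as) (fun x => hY x.as) s

theorem orth_isLocalizing [IsGrothendieckAbelian.{w} C] [Injective I] [Mono ι] :
    GabLoc.IsLocalizing.{w} (Orth ι q) := by
  haveI : (Orth ι q).IsClosedUnderSubobjects := ⟨fun f _ h => orth_mono f h⟩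
  haveI : (Orth ι q).IsClosedUnderQuotients := ⟨fun f _ h => orth_epi w0 hk f h⟩
  haveI : (Orth ι q).IsClosedUnderExtensions := ⟨fun hT h1 h3 => orth_extension w0 hk hT h1 h3⟩
  haveI : (Orth ι q).ContainsZero := ⟨⟨0, isZero_zero C, orth_zero (isZero_zero C)⟩⟩
  refine ⟨{}, fun J => ⟨?_⟩⟩
  rintro X ⟨p⟩
  let e := (p.isColimit.coconePointUniqueUpToIso (colimit.isColimit p.diag)) ≪≫
    HasColimit.isoOfNatIso (Discrete.natIsoFunctor (F := p.diag))
  exact orth_mono e.hom (orth_coproduct w0 hk (fun j => p.diag.obj ⟨j⟩) fun j => p.prop_diag_obj ⟨j⟩)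

end

theorem isClosedFor_mono {P P' : ObjectProperty C} (h : P ≤ P') {M : C}
    (hM : GabLoc.IsClosedFor P' M) : GabLoc.IsClosedFor P M :=
  ⟨fun Y hY => hM.1 (h _ hY), fun _ _ i p hp hY => hM.2 i p hp (h _ hY)⟩

theorem le_locClosure (P : ObjectProperty C) : P ≤ GabLoc.locClosure.{w} P :=
  fun X hX _ _ hle => hle X hX

theorem isClosedFor_locClosure [IsGrothendieckAbelian.{w} C] (P : ObjectProperty C)
    [P.IsClosedUnderSubobjects] {M : C} (hM : GabLoc.IsClosedFor P M) :
    GabLoc.IsClosedFor (GabLoc.locClosure.{w} P) M := by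
  let ι := Injective.ι M
  let q := cokernel.π ι
  have w0 : ι ≫ q = 0 := cokernel.condition ι
  let hk : IsLimit (KernelFork.ofι ι w0) :=
    Abelian.monoIsKernelOfCokernel (CokernelCofork.ofπ q w0) (cokernelIsCokernel ι)
  have hP : P ≤ Orth ι q := by
    intro Y hY S s hs
    have hS : P S := ObjectProperty.prop_of_mono P s hY
    refine ⟨hM.1 hS, fun g => ?_⟩
    let i : M ⟶ pullback q g := pullback.lift ι 0 (by rw [w0, zero_comp])
    have hi : i ≫ pullback.snd q g = 0 := pullback.lift_snd _ _ _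
    haveI : Mono i := by
      haveI : Mono (i ≫ pullback.fst q g) := by rw [pullback.lift_fst]; infer_instance
      exact mono_of_mono i (pullback.fst q g)
    have hex : (ShortComplex.mk i (pullback.snd q g) hi).ShortExact := by
      haveI : Mono (ShortComplex.mk i (pullback.snd q g) hi).f := ‹Mono i›
      haveI : Epi (ShortComplex.mk i (pullback.snd q g) hi).g := inferInstanceAs (Epi (pullback.snd q g))
      refine ⟨ShortComplex.exact_of_f_is_kernel _ (KernelFork.IsLimit.ofι' _ _ fun {Z} t ht => ?_)⟩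
      have h1 : (t ≫ pullback.fst q g) ≫ q = 0 := by
        rw [Category.assoc, pullback.condition, ← Category.assoc, ht, zero_comp]
      refine ⟨(KernelFork.IsLimit.lift' hk _ h1).1, ?_⟩
      apply pullback.hom_ext
      · rw [Category.assoc, pullback.lift_fst]; exact (KernelFork.IsLimit.lift' hk _ h1).2
      · rw [Category.assoc, pullback.lift_snd, comp_zero, ht]
    haveI := hM.2 i (pullback.snd q g) hi hS hex
    let sp := ShortComplex.Splitting.ofExactOfRetraction (ShortComplex.mk i (pullback.snd q g) hi) hex.exact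
      (retraction i) (IsSplitMono.id i) (inferInstanceAs (Epi (pullback.snd q g)))
    refine ⟨sp.s ≫ pullback.fst q g, ?_⟩
    rw [Category.assoc, pullback.condition, ← Category.assoc, sp.s_g, Category.id_comp]
  have hloc := orth_isLocalizing.{w} w0 hk
  refine ⟨fun Y hY => ((hY _ hloc hP) (𝟙 Y) inferInstance).1, fun N Y i p hp hY hex => ?_⟩
  haveI : Mono i := hex.mono_f
  haveI : Epi p := hex.epi_g
  let h := Injective.factorThru ι i
  have hh : i ≫ h = ι := Injective.comp_factorThru ι i
  obtain ⟨g, hg⟩ := CokernelCofork.IsColimit.desc' hex.gIsCokernel (h ≫ q) (by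
    change i ≫ h ≫ q = 0
    rw [← Category.assoc, hh, w0])
  obtain ⟨l, hl⟩ := ((hY _ hloc hP) (𝟙 Y) inferInstance).2 g
  obtain ⟨r, hr⟩ := KernelFork.IsLimit.lift' hk (h - p ≫ l) (by
    rw [Preadditive.sub_comp, Category.assoc, hl, sub_eq_zero]
    exact hg.symm)
  refine IsSplitMono.mk' ⟨r, ?_⟩
  rw [← cancel_mono ι, Category.assoc, Category.id_comp]
  refine (congrArg (i ≫ ·) hr).trans ?_
  rw [Preadditive.comp_sub, ← Category.assoc, hp, zero_comp, sub_zero, hh]

theorem isClosedFor_locClosure_sup [IsGrothendieckAbelian.{w} C] (P P' : ObjectProperty C)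
    [P.IsClosedUnderSubobjects] [P'.IsClosedUnderSubobjects] {M : C}
    (h : GabLoc.IsClosedFor P M) (h' : GabLoc.IsClosedFor P' M) :
    GabLoc.IsClosedFor (GabLoc.locClosure.{w} (P ⊔ P')) M := by
  haveI : (P ⊔ P').IsClosedUnderSubobjects :=
    ⟨fun f _ hY => hY.imp (ObjectProperty.prop_of_mono P f) (ObjectProperty.prop_of_mono P' f)⟩
  refine isClosedFor_locClosure _ ⟨fun Y hY => hY.elim (fun h1 => h.1 h1) (fun h1 => h'.1 h1),
    fun N Y i p hp hY => hY.elim (fun h1 => h.2 i p hp h1) (fun h1 => h'.2 i p hp h1)⟩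

end GrothLib.GabLocB
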